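import Cfsg.Agent.Lib.Char.Virtual
import Cfsg.Agent.Lib.Char.Table
import Cfsg.Agent.Lib.Blocks.PPart
import Mathlib.Algebra.Module.CharacterModule

/-!
# Spans of induced functions with integral coefficients; descent to integer coefficients
-/

set_option autoImplicit false
set_option linter.unusedSectionVars false

namespace CfsgLib.BrauerInd

open Cfsg
open scoped ComplexConjugate CfsgLib.Char

variable {G : Type*} [Group G]

/-- Functions induced from characters of `p`-elementary subgroups. -/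
def elemGen [Fintype G] (p : ℕ) : Set (G → ℂ) :=
  {f | ∃ (E : Subgroup G) (φ : E → ℂ), IsElementary p E ∧ IsCharacter E φ ∧ f = indFun E φ}

/-- Combinations with algebraic integer coefficients. -/
def intSpan (S : Set (G → ℂ)) : AddSubgroup (G → ℂ) :=
  AddSubgroup.closure {f | ∃ a : ℂ, IsIntegral ℤ a ∧ ∃ s ∈ S, f = a • s}

theorem smul_mem_intSpan {S : Set (G → ℂ)} {a : ℂ} (ha : IsIntegral ℤ a) {f : G → ℂ}
    (hf : f ∈ intSpan S) : a • f ∈ intSpan S := by
  induction hf using AddSubgroup.closure_induction with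
  | mem x hx =>
      obtain ⟨b, hb, s, hs, rfl⟩ := hx
      exact AddSubgroup.subset_closure ⟨a * b, ha.mul hb, s, hs, (smul_smul a b s)⟩
  | zero => rw [smul_zero]; exact zero_mem _
  | add x y _ _ h1 h2 => rw [smul_add]; exact add_mem h1 h2
  | neg x _ h => rw [smul_neg]; exact neg_mem h

theorem mem_intSpan_of_mem {S : Set (G → ℂ)} {s : G → ℂ} (hs : s ∈ S) : s ∈ intSpan S :=
  AddSubgroup.subset_closure ⟨1, isIntegral_one, s, hs, (one_smul ℂ s).symm⟩

theorem closure_le_intSpan (S : Set (G → ℂ)) : AddSubgroup.closure S ≤ intSpan S :=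
  (AddSubgroup.closure_le _).mpr fun _ h => mem_intSpan_of_mem h

theorem intSpan_le {S : Set (G → ℂ)} {A : AddSubgroup (G → ℂ)}
    (h : ∀ s ∈ S, ∀ a : ℂ, IsIntegral ℤ a → a • s ∈ A) : intSpan S ≤ A :=
  (AddSubgroup.closure_le _).mpr fun _ ⟨a, ha, s, hs, he⟩ => he ▸ h s hs a ha

variable [Fintype G]

theorem indFun_mul (E : Subgroup G) (φ : E → ℂ) {χ : G → ℂ} (hχ : IsClassFunction G χ) :
    indFun E φ * χ = indFun E (φ * fun e : E => χ e) := by
  funext g
  rw [Pi.mul_apply, indFun, indFun, mul_assoc, Finset.sum_mul]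
  congr 1
  refine Finset.sum_congr rfl fun x _ => ?_
  by_cases hx : x⁻¹ * g * x ∈ E
  · rw [Char.extendByZero_mem E _ hx, Char.extendByZero_mem E _ hx, Pi.mul_apply]
    congr 1
    show χ g = χ (x⁻¹ * g * x)
    simpa using (hχ g x⁻¹).symm
  · rw [Char.extendByZero_notMem E _ hx, Char.extendByZero_notMem E _ hx, zero_mul]

theorem mul_mem_intSpan_elemGen {p : ℕ} {f : G → ℂ} (hf : f ∈ intSpan (elemGen p)) {χ : G → ℂ}
    (hχ : IsCharacter G χ) : f * χ ∈ intSpan (elemGen p) := by
  induction hf using AddSubgroup.closure_induction with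
  | mem x hx =>
      obtain ⟨a, ha, _, ⟨E, φ, hE, hφ, rfl⟩, rfl⟩ := hx
      rw [smul_mul_assoc, indFun_mul E φ (Char.isClassFunction_of_isCharacter hχ)]
      exact smul_mem_intSpan ha (mem_intSpan_of_mem ⟨E, _, hE,
        Char.isCharacter_mul hφ (Char.isCharacter_restrict E hχ), rfl⟩)
  | zero => rw [zero_mul]; exact zero_mem _
  | add x y _ _ h1 h2 => rw [add_mul]; exact add_mem h1 h2
  | neg x _ h => rw [neg_mul]; exact neg_mem h

theorem elemGen_le_characters (p : ℕ) :
    intSpan (elemGen (G := G) p) ≤ intSpan {χ : G → ℂ | IsCharacter G χ} :=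
  intSpan_le fun _ ⟨E, φ, _, hφ, he⟩ _ ha =>
    smul_mem_intSpan ha (mem_intSpan_of_mem (he ▸ Char.isCharacter_indFun E hφ))

theorem mul_mem_intSpan_elemGen' {p : ℕ} {f g : G → ℂ} (hf : f ∈ intSpan (elemGen p))
    (hg : g ∈ intSpan {χ : G → ℂ | IsCharacter G χ}) : f * g ∈ intSpan (elemGen p) := by
  induction hg using AddSubgroup.closure_induction with
  | mem x hx =>
      obtain ⟨a, ha, χ, hχ, rfl⟩ := hx
      rw [mul_smul_comm]
      exact smul_mem_intSpan ha (mul_mem_intSpan_elemGen hf hχ)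
  | zero => rw [mul_zero]; exact zero_mem _
  | add x y _ _ h1 h2 => rw [mul_add]; exact add_mem h1 h2
  | neg x _ h => rw [mul_neg]; exact neg_mem h

theorem pow_mem_intSpan_elemGen {p : ℕ} {f : G → ℂ} (hf : f ∈ intSpan (elemGen p)) {n : ℕ}
    (hn : 0 < n) : f ^ n ∈ intSpan (elemGen p) := by
  induction n, hn using Nat.le_induction with
  | base => rwa [pow_one]
  | succ n _ ih => rw [pow_succ]; exact mul_mem_intSpan_elemGen' ih (elemGen_le_characters p hf)

/-- A combination of characters of an elementary subgroup, induced. -/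
theorem indFun_mem_intSpan {p : ℕ} {E : Subgroup G} (hE : IsElementary p E) {ι : Type*}
    (s : Finset ι) (a : ι → ℂ) (φ : ι → E → ℂ) (ha : ∀ i ∈ s, IsIntegral ℤ (a i))
    (hφ : ∀ i ∈ s, IsCharacter E (φ i)) :
    indFun E (∑ i ∈ s, a i • φ i) ∈ intSpan (elemGen p) := by
  rw [Char.indFun_sum]
  refine sum_mem fun i hi => ?_
  rw [Char.indFun_smul]
  exact smul_mem_intSpan (ha i hi) (mem_intSpan_of_mem ⟨E, _, hE, hφ i hi, rfl⟩)

/-- An integral combination of generalized characters which is a generalized character is an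
integer combination of them. -/
theorem mem_closure_of_mem_intSpan {S : Set (G → ℂ)} (hS : ∀ s ∈ S, IsGeneralizedCharacter G s)
    {v : G → ℂ} (hv : IsGeneralizedCharacter G v) (hmem : v ∈ intSpan S) :
    v ∈ AddSubgroup.closure S := by
  classical
  let L : (IrrCharacter G → ℤ) →+ (G → ℂ) :=
    { toFun := fun c => ∑ χ : IrrCharacter G, (c χ : ℂ) • (χ : G → ℂ)
      map_zero' := by simp
      map_add' := fun a b => by simp [add_smul, Finset.sum_add_distrib] }
  have hcoord : ∀ φ : G → ℂ, IsGeneralizedCharacter G φ → ∃ c, L c = φ ∧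
      ∀ χ : IrrCharacter G, classInner φ (χ : G → ℂ) = (c χ : ℂ) := by
    intro φ hφ
    choose c hc using fun χ : IrrCharacter G =>
      Char.exists_int_classInner hφ (Char.isGeneralized_of_isIrr χ.2)
    refine ⟨c, ?_, hc⟩
    show ∑ χ : IrrCharacter G, (c χ : ℂ) • (χ : G → ℂ) = φ
    conv_rhs => rw [Char.classFunction_expansion (Char.isClassFunction_of_isGeneralized hφ)]
    exact Finset.sum_congr rfl fun χ _ => by rw [hc]
  obtain ⟨c, hcv, hcc⟩ := hcoord v hv
  by_contra hno
  set A : AddSubgroup (IrrCharacter G → ℤ) := (AddSubgroup.closure S).comap L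
  have hne : QuotientAddGroup.mk' A c ≠ 0 := fun h => hno (by
    rw [QuotientAddGroup.mk'_apply, QuotientAddGroup.eq_zero_iff] at h
    have := AddSubgroup.mem_comap.mp h
    rwa [hcv] at this)
  obtain ⟨f, hf⟩ := CharacterModule.exists_character_apply_ne_zero_of_ne_zero hne
  set g : (IrrCharacter G → ℤ) →+ AddCircle (1 : ℚ) := f.comp (QuotientAddGroup.mk' A)
  choose r hr using fun χ : IrrCharacter G =>
    (QuotientAddGroup.mk_surjective (g (Pi.single χ 1) : AddCircle (1 : ℚ)))
  have hg : ∀ d : IrrCharacter G → ℤ, g d = ((∑ χ : IrrCharacter G, (d χ : ℚ) * r χ : ℚ) : AddCircle (1 : ℚ)) := by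
    intro d
    have hd : d = ∑ χ : IrrCharacter G, d χ • Pi.single χ (1 : ℤ) := by
      funext η
      simp [Finset.sum_apply, Pi.single_apply]
    conv_lhs => rw [hd]
    rw [map_sum, ← QuotientAddGroup.mk'_apply, map_sum]
    refine Finset.sum_congr rfl fun χ _ => ?_
    rw [map_zsmul, ← hr χ, ← zsmul_eq_mul, QuotientAddGroup.mk'_apply, QuotientAddGroup.mk_zsmul]
  set Λ : (G → ℂ) → ℂ := fun φ => ∑ χ : IrrCharacter G, classInner φ (χ : G → ℂ) * (r χ : ℂ)
  have hint : ∀ φ ∈ intSpan S, IsIntegral ℤ (Λ φ) := by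
    intro φ hφ
    induction hφ using AddSubgroup.closure_induction with
    | mem x hx =>
        obtain ⟨a, ha, s, hs, rfl⟩ := hx
        have he : Λ (a • s) = a * Λ s := by
          simp only [Λ, Char.classInner_smul_left, Finset.mul_sum, mul_assoc]
        rw [he]
        refine ha.mul ?_
        obtain ⟨d, hd, hdc⟩ := hcoord s (hS s hs)
        have hg0 : g d = 0 := by
          show f (QuotientAddGroup.mk' A d) = 0
          rw [show QuotientAddGroup.mk' A d = 0 from (QuotientAddGroup.eq_zero_iff d).mpr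
            (AddSubgroup.mem_comap.mpr (by rw [hd]; exact AddSubgroup.subset_closure hs)), map_zero]
        rw [hg, AddCircle.coe_eq_zero_iff] at hg0
        obtain ⟨n, hn⟩ := hg0
        have hΛ : Λ s = (n : ℂ) := by
          simp only [Λ, hdc]
          have := congrArg (fun q : ℚ => (q : ℂ)) hn
          simp only [zsmul_eq_mul, mul_one, Rat.cast_intCast, Rat.cast_sum, Rat.cast_mul] at this
          exact this.symm
        rw [hΛ]
        exact isIntegral_algebraMap (R := ℤ) (x := n)
    | zero => simp [Λ, Char.classInner_zero_left, isIntegral_zero]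
    | add x y _ _ h1 h2 =>
        simp only [Λ, Char.classInner_add_left, add_mul, Finset.sum_add_distrib]
        exact h1.add h2
    | neg x _ h =>
        simp only [Λ, Char.classInner_neg_left, neg_mul, Finset.sum_neg_distrib]
        exact h.neg
  have hq : IsIntegral ℤ (((∑ χ : IrrCharacter G, (c χ : ℚ) * r χ : ℚ)) : ℂ) := by
    have := hint v hmem
    simp only [Λ, hcc] at this
    push_cast
    exact this
  obtain ⟨n, hn⟩ := IsIntegrallyClosed.isIntegral_iff.mp
    ((isIntegral_algebraMap_iff (algebraMap ℚ ℂ).injective).mp hq)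
  refine hf ?_
  show g c = 0
  rw [hg, AddCircle.coe_eq_zero_iff]
  exact ⟨n, by rw [zsmul_eq_mul, mul_one, ← hn]; rfl⟩

/-- An element of the closure as a list. -/
theorem exists_list_of_mem_closure {A : Type*} [AddCommGroup A] {S : Set A} {x : A}
    (h : x ∈ AddSubgroup.closure S) :
    ∃ l : List (A × ℤ), (∀ t ∈ l, t.1 ∈ S) ∧ x = (l.map fun t => t.2 • t.1).sum := by
  induction h using AddSubgroup.closure_induction with
  | mem x hx => exact ⟨[(x, 1)], by simpa using hx, by simp⟩
  | zero => exact ⟨[], by simp, by simp⟩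
  | add x y _ _ h1 h2 =>
      obtain ⟨l₁, m₁, e₁⟩ := h1
      obtain ⟨l₂, m₂, e₂⟩ := h2
      exact ⟨l₁ ++ l₂, fun t ht => (List.mem_append.mp ht).elim (m₁ t) (m₂ t), by simp [e₁, e₂]⟩
  | neg x _ h =>
      obtain ⟨l, m, e⟩ := h
      refine ⟨l.map fun t => (t.1, -t.2), fun t ht => ?_, ?_⟩
      · obtain ⟨s, hs, rfl⟩ := List.mem_map.mp ht
        exact m s hs
      · rw [e]
        clear e m
        induction l with
        | nil => simp
        | cons a l ih => simp only [List.map_cons, List.sum_cons, neg_add, neg_smul, ih]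

end CfsgLib.BrauerInd
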