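import Cfsg.Agent.Lib.BrauerInd.Basic
import Cfsg.Agent.Lib.Blocks.CentralChar

/-!
# Brauer's induction theorem for `p`-elementary subgroups and the characterisation of generalized
characters
-/

set_option autoImplicit false
set_option linter.unusedSectionVars false

namespace CfsgLib.BrauerInd

open Cfsg
open scoped ComplexConjugate CfsgLib.Char Pointwise

variable {G : Type*} [Group G] [Fintype G] {p : ℕ}

theorem exists_pow_index_of_pow_mem {E : Type*} [Group E] [Finite E] (hp : p.Prime)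
    (N : Subgroup E) [N.Normal] (h : ∀ e : E, ∃ k : ℕ, e ^ p ^ k ∈ N) :
    ∃ k : ℕ, N.index = p ^ k := by
  have : Fact p.Prime := ⟨hp⟩
  refine IsPGroup.iff_card.mp (fun q => ?_)
  obtain ⟨e, rfl⟩ := QuotientGroup.mk_surjective q
  obtain ⟨k, hk⟩ := h e
  exact ⟨k, by rw [← QuotientGroup.mk_pow, QuotientGroup.eq_one_iff]; exact hk⟩

/-- A cyclic group is elementary for every prime. -/
theorem isElementary_zpowers (hp : p.Prime) (g : G) : IsElementary p (Subgroup.zpowers g) := by
  obtain ⟨u, ⟨w, hw1, hw2, ⟨k, hk⟩, hw4⟩, hu⟩ := Blocks.exists_isPPart hp g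
  have hw : w ∈ Subgroup.zpowers g := by
    have : w = u⁻¹ * g := by rw [← hw1, inv_mul_cancel_left]
    rw [this]
    exact mul_mem (inv_mem hu) (Subgroup.mem_zpowers g)
  set E := Subgroup.zpowers g
  have hcen : ∀ a b : E, a * b = b * a := fun a b => Subtype.ext (by
    obtain ⟨i, hi⟩ := Subgroup.mem_zpowers_iff.mp a.2
    obtain ⟨j, hj⟩ := Subgroup.mem_zpowers_iff.mp b.2
    simp only [Subgroup.coe_mul, ← hi, ← hj]
    exact ((Commute.refl g).zpow_zpow i j).eq)
  have hn : (Subgroup.zpowers (⟨w, hw⟩ : E)).Normal :=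
    ⟨fun a ha b => by rw [hcen b a, mul_inv_cancel_right]; exact ha⟩
  refine ⟨⟨w, hw⟩, Subgroup.mem_center_iff.mpr fun b => hcen b _, ?_,
    exists_pow_index_of_pow_mem hp _ fun e => ⟨k, ?_⟩⟩
  · rw [Subgroup.orderOf_mk]
    exact ((hp.coprime_iff_not_dvd).mpr hw4).symm
  · obtain ⟨n, hn⟩ := Subgroup.mem_zpowers_iff.mp e.2
    refine Subgroup.mem_zpowers_iff.mpr ⟨n * (p ^ k : ℕ), Subtype.ext ?_⟩
    have h1 : u ^ (n * ((p ^ k : ℕ) : ℤ)) = 1 := by
      rw [mul_comm, zpow_mul, zpow_natCast, ← hk, pow_orderOf_eq_one, one_zpow]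
    simp only [Subgroup.coe_zpow, Subgroup.coe_pow]
    rw [← hn, ← zpow_natCast (g ^ n), ← zpow_mul, ← hw1, hw2.mul_zpow, h1, one_mul]

/-- `|G|` times the indicator of a class. -/
theorem card_smul_classIndicator_mem (hp : p.Prime) (g : G) :
    (fun y : G => open Classical in if IsConj y g then (Nat.card G : ℂ) else 0) ∈
      intSpan (elemGen p) := by
  classical
  set E := Subgroup.zpowers g
  set g' : E := ⟨g, Subgroup.mem_zpowers g⟩
  have hcen : ∀ a b : E, IsConj a b → a = b := fun a b h => by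
    obtain ⟨c, rfl⟩ := isConj_iff.mp h
    apply Subtype.ext
    obtain ⟨i, hi⟩ := Subgroup.mem_zpowers_iff.mp a.2
    obtain ⟨j, hj⟩ := Subgroup.mem_zpowers_iff.mp c.2
    simp only [Subgroup.coe_mul, Subgroup.coe_inv, ← hi, ← hj]
    rw [((Commute.refl g).zpow_zpow j i).eq, mul_inv_cancel_right]
  have hψ : ∀ e : E, (∑ χ : IrrCharacter E, conj ((χ : E → ℂ) g') • (χ : E → ℂ)) e =
      if e = g' then (Nat.card (Subgroup.centralizer ({g'} : Set E)) : ℂ) else 0 := fun e => by
    rw [Finset.sum_apply]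
    simp only [Pi.smul_apply, smul_eq_mul]
    rw [Finset.sum_congr rfl fun χ _ => mul_comm _ _, Char.column_orthogonality]
    by_cases he : e = g'
    · rw [if_pos he, if_pos (he ▸ IsConj.refl e)]
    · rw [if_neg he, if_neg fun h => he (hcen _ _ h)]
  have hmem := indFun_mem_intSpan (isElementary_zpowers hp g) (Finset.univ)
    (fun χ : IrrCharacter E => conj ((χ : E → ℂ) g')) (fun χ => (χ : E → ℂ))
    (fun χ _ => Blocks.irr_conj_isIntegral χ.2 g')
    (fun χ _ => Char.isCharacter_of_isIrr χ.2)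
  have hC : Nat.card (Subgroup.centralizer ({g'} : Set E)) = Nat.card E := by
    rw [Subgroup.centralizer_eq_top_iff_subset.mpr (Set.singleton_subset_iff.mpr
      (Subgroup.mem_center_iff.mpr fun b => ?_)), Subgroup.card_top]
    apply Subtype.ext
    obtain ⟨i, hi⟩ := Subgroup.mem_zpowers_iff.mp b.2
    simp only [Subgroup.coe_mul, ← hi, g']
    exact ((Commute.refl g).zpow_left i).eq
  have hval : indFun E (∑ χ : IrrCharacter E, conj ((χ : E → ℂ) g') • (χ : E → ℂ)) =
      fun y : G => if IsConj y g then (Nat.card (Subgroup.centralizer ({g} : Set G)) : ℂ) else 0 := by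
    funext y
    rw [indFun, show (∑ χ : IrrCharacter E, conj ((χ : E → ℂ) g') • (χ : E → ℂ)) =
      fun e => if e = g' then (Nat.card E : ℂ) else 0 from funext fun e => by rw [hψ, hC]]
    have hterm : ∀ x : G, extendByZero E (fun e => if e = g' then (Nat.card E : ℂ) else 0)
        (x⁻¹ * y * x) = if x⁻¹ * y * x = g then (Nat.card E : ℂ) else 0 := fun x => by
      by_cases hx : x⁻¹ * y * x ∈ E
      · rw [Char.extendByZero_mem E _ hx]
        exact if_congr Subtype.ext_iff rfl rfl
      · rw [Char.extendByZero_notMem E _ hx, if_neg]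
        exact fun h => hx (h ▸ Subgroup.mem_zpowers g)
    rw [Finset.sum_congr rfl fun x _ => hterm x, ← Finset.sum_filter, Finset.sum_const, nsmul_eq_mul,
      mul_comm (Nat.cast _) (Nat.card E : ℂ),
      inv_mul_cancel_left₀ (Nat.cast_ne_zero.mpr Nat.card_pos.ne')]
    by_cases hy : IsConj y g
    · rw [if_pos hy]
      obtain ⟨c, hc⟩ := isConj_iff.mp hy
      congr 1
      rw [← Fintype.card_subtype, ← Nat.card_eq_fintype_card]
      refine (Nat.card_congr (Equiv.subtypeEquiv (Equiv.mulLeft c⁻¹) fun z => ?_)).symm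
      rw [Subgroup.mem_centralizer_singleton_iff, Equiv.coe_mulLeft, ← hc]
      beta_reduce
      constructor
      · intro h
        calc (c⁻¹ * z)⁻¹ * y * (c⁻¹ * z) = z⁻¹ * ((c * y * c⁻¹) * z) := by group
          _ = z⁻¹ * (z * (c * y * c⁻¹)) := by rw [h]
          _ = _ := inv_mul_cancel_left _ _
      · intro h
        calc z * (c * y * c⁻¹) = z * ((c⁻¹ * z)⁻¹ * y * (c⁻¹ * z)) := by rw [h]
          _ = _ := by group
    · rw [if_neg hy, Finset.card_eq_zero.mpr, Nat.cast_zero]
      refine Finset.filter_eq_empty_iff.mpr fun x _ hx => hy (isConj_iff.mpr ⟨x⁻¹, ?_⟩)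
      rw [inv_inv, hx]
  rw [hval] at hmem
  have := smul_mem_intSpan (a := ((Subgroup.centralizer ({g} : Set G)).index : ℂ))
    (isIntegral_algebraMap (R := ℤ) (x := ((Subgroup.centralizer ({g} : Set G)).index : ℤ))) hmem
  convert this using 1
  funext y
  simp only [Pi.smul_apply, smul_eq_mul, mul_ite, mul_zero]
  split_ifs
  · rw [← Nat.cast_mul, Subgroup.index_mul_card]
  · rfl

theorem card_smul_mem (hp : p.Prime) {h : G → ℂ} (hcl : IsClassFunction G h)
    (hint : ∀ g, IsIntegral ℤ (h g)) : (Nat.card G : ℂ) • h ∈ intSpan (elemGen p) := by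
  classical
  have : Fintype (ConjClasses G) := Fintype.ofFinite _
  have he : (Nat.card G : ℂ) • h = ∑ c : ConjClasses G, h (Quotient.out c) •
      fun y : G => if IsConj y (Quotient.out c) then (Nat.card G : ℂ) else 0 := by
    funext y
    rw [Finset.sum_apply, Finset.sum_eq_single (ConjClasses.mk y) ?_ (by simp)]
    · simp only [Pi.smul_apply, smul_eq_mul]
      have hc : IsConj y (Quotient.out (ConjClasses.mk y)) :=
        ConjClasses.mk_eq_mk_iff_isConj.mp (Quotient.out_eq (ConjClasses.mk y)).symm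
      obtain ⟨a, ha⟩ := isConj_iff.mp hc
      rw [if_pos hc, mul_comm, ← ha, hcl y a]
    · intro c _ hc
      simp only [Pi.smul_apply, smul_eq_mul]
      rw [if_neg, mul_zero]
      exact fun h => hc (((ConjClasses.mk_eq_mk_iff_isConj.mpr h).trans (Quotient.out_eq c)).symm)
  rw [he]
  exact sum_mem fun c _ => smul_mem_intSpan (hint _) (card_smul_classIndicator_mem hp _)

theorem conj_translate {z u x : G} (hzx : z * x = x * z) (hux : u * x = x * u) :
    x⁻¹ * (z⁻¹ * (u * x) * z) = z⁻¹ * u * z := by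
  have h : z⁻¹ * x = x * z⁻¹ := ((show Commute z x from hzx).inv_left).eq
  rw [hux, show x⁻¹ * (z⁻¹ * (x * u) * z) = x⁻¹ * (z⁻¹ * x) * (u * z) by group, h]
  group

/-- For a `p`-regular element, a function in the span supported on its section and prime to `p`
there. -/
theorem exists_section_function (hp : p.Prime) {x : G} (hx : ¬ p ∣ orderOf x) :
    ∃ N : G → ℕ, (fun g => (N g : ℂ)) ∈ intSpan (elemGen p) ∧
      (∀ g u w : G, u * w = g → Commute u w → (∃ k : ℕ, orderOf u = p ^ k) → ¬ p ∣ orderOf w →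
        ¬ IsConj w x → N g = 0) ∧
      ∀ g u w : G, u * w = g → Commute u w → (∃ k : ℕ, orderOf u = p ^ k) → ¬ p ∣ orderOf w →
        IsConj w x → ¬ p ∣ N g := by
  classical
  have : Fact p.Prime := ⟨hp⟩
  set C := Subgroup.centralizer ({x} : Set G)
  set S : Sylow p C := default
  set P : Subgroup G := (S : Subgroup C).map C.subtype
  have hPC : ∀ v ∈ P, Commute v x := by
    rintro _ ⟨v, -, rfl⟩
    exact Subgroup.mem_centralizer_singleton_iff.mp v.2
  have hPp : IsPGroup p P := S.2.map _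
  set E := Subgroup.zpowers x ⊔ P
  have hxE : x ∈ E := Subgroup.mem_sup_left (Subgroup.mem_zpowers x)
  have hPE : P ≤ E := le_sup_right
  have hEN : E ≤ Subgroup.normalizer (P : Set G) := sup_le (Subgroup.zpowers_le.mpr (by
    rw [Subgroup.mem_normalizer_iff]
    intro v
    constructor
    · intro hv
      rwa [← (hPC v hv).eq, mul_inv_cancel_right]
    · intro hv
      have h := hPC _ hv
      have hv' : x * v * x⁻¹ * x = x * (x * v * x⁻¹) := h.eq
      have h2 : v * x = x * v := by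
        calc v * x = x⁻¹ * (x * v * x⁻¹ * x) * x := by group
          _ = x⁻¹ * (x * (x * v * x⁻¹)) * x := by rw [hv']
          _ = x * v := by group
      rwa [show x * v * x⁻¹ = v by rw [← h2, mul_inv_cancel_right]] at hv)) Subgroup.le_normalizer
  have hPn : (P.subgroupOf E).Normal := Subgroup.normal_subgroupOf_iff hPE |>.mpr fun v e hv he =>
    (Subgroup.mem_normalizer_iff.mp (hEN he) v).mp hv
  set x' : E := ⟨x, hxE⟩
  have hEC : E ≤ C := sup_le (Subgroup.zpowers_le.mpr (Subgroup.mem_centralizer_singleton_iff.mpr rfl))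
    (fun v hv => Subgroup.mem_centralizer_singleton_iff.mpr (hPC v hv).eq)
  have hx'c : x' ∈ Subgroup.center E := Subgroup.mem_center_iff.mpr fun e => Subtype.ext
    (Subgroup.mem_centralizer_singleton_iff.mp (hEC e.2))
  have hAn : (Subgroup.zpowers x').Normal :=
    ⟨fun a ha b => by
      have hac : a ∈ Subgroup.center E := (Subgroup.zpowers_le.mpr hx'c) ha
      rwa [Subgroup.mem_center_iff.mp hac b, mul_inv_cancel_right]⟩
  have hdec : ∀ e : E, ∃ i : ℤ, ∃ v ∈ P, (e : G) = x ^ i * v := fun e => by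
    have he : (e : G) ∈ E := e.2
    have hle : Subgroup.zpowers x ≤ Subgroup.normalizer (P : Set G) := le_sup_left.trans hEN
    have : (e : G) ∈ ((Subgroup.zpowers x : Set G) * (P : Set G)) := by
      rw [← Subgroup.coe_mul_of_left_le_normalizer_right _ _ hle]; exact he
    obtain ⟨a, ha, v, hv, hav⟩ := Set.mem_mul.mp this
    obtain ⟨i, rfl⟩ := Subgroup.mem_zpowers_iff.mp ha
    exact ⟨i, v, hv, hav.symm⟩
  have hEel : IsElementary p E := by
    refine ⟨x', hx'c, ?_, exists_pow_index_of_pow_mem hp _ fun e => ?_⟩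
    · rw [Subgroup.orderOf_mk]
      exact ((hp.coprime_iff_not_dvd).mpr hx).symm
    · obtain ⟨i, v, hv, he⟩ := hdec e
      obtain ⟨k, hk⟩ := IsPGroup.iff_orderOf.mp hPp ⟨v, hv⟩
      rw [Subgroup.orderOf_mk] at hk
      refine ⟨k, Subgroup.mem_zpowers_iff.mpr ⟨i * (p ^ k : ℕ), Subtype.ext ?_⟩⟩
      simp only [Subgroup.coe_zpow, Subgroup.coe_pow]
      rw [he, ((hPC v hv).symm.zpow_left i).mul_pow, ← hk, pow_orderOf_eq_one, mul_one, zpow_mul,
        zpow_natCast]
  have : Fintype (E ⧸ P.subgroupOf E) := Fintype.ofFinite _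
  set q := QuotientGroup.mk' (P.subgroupOf E)
  have hqc : ∀ b : E ⧸ P.subgroupOf E, b * q x' = q x' * b := fun b => by
    obtain ⟨e, rfl⟩ := QuotientGroup.mk'_surjective _ b
    rw [← map_mul, ← map_mul, Subgroup.mem_center_iff.mp hx'c e]
  set n := Nat.card (E ⧸ P.subgroupOf E)
  have hψ : (∑ χ : IrrCharacter (E ⧸ P.subgroupOf E),
      conj ((χ : E ⧸ P.subgroupOf E → ℂ) (q x')) • fun e => (χ : E ⧸ P.subgroupOf E → ℂ) (q e)) =
      fun e : E => if x⁻¹ * (e : G) ∈ P then (n : ℂ) else 0 := by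
    funext e
    rw [Finset.sum_apply]
    simp only [Pi.smul_apply, smul_eq_mul]
    rw [Finset.sum_congr rfl fun χ _ => mul_comm _ _, Char.column_orthogonality]
    have hconj : IsConj (q e) (q x') ↔ x⁻¹ * (e : G) ∈ P := by
      rw [show (IsConj (q e) (q x') ↔ _) = (IsConj (q e) (q x') ↔ x⁻¹ * (e : G) ∈ P) from rfl]
      constructor
      · intro h
        obtain ⟨b, hb⟩ := isConj_iff.mp h.symm
        rw [hqc b, mul_inv_cancel_right] at hb
        exact Subgroup.mem_subgroupOf.mp (QuotientGroup.eq.mp hb)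
      · intro h
        rw [show q e = q x' from (QuotientGroup.eq.mpr (show x'⁻¹ * e ∈ P.subgroupOf E from
          Subgroup.mem_subgroupOf.mpr h)).symm]
    rw [Subgroup.centralizer_eq_top_iff_subset.mpr (Set.singleton_subset_iff.mpr
      (Subgroup.mem_center_iff.mpr hqc)), Subgroup.card_top]
    by_cases h : x⁻¹ * (e : G) ∈ P
    · rw [if_pos (hconj.mpr h), if_pos h]
    · rw [if_neg (mt hconj.mp h), if_neg h]
  have hmem := indFun_mem_intSpan hEel Finset.univ
    (fun χ : IrrCharacter (E ⧸ P.subgroupOf E) => conj ((χ : E ⧸ P.subgroupOf E → ℂ) (q x')))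
    (fun χ e => (χ : E ⧸ P.subgroupOf E → ℂ) (q e))
    (fun χ _ => Blocks.irr_conj_isIntegral χ.2 _)
    (fun χ _ => Char.isCharacter_comp q (Char.isCharacter_of_isIrr χ.2))
  rw [hψ] at hmem
  set T : G → Finset G := fun g => {z | x⁻¹ * (z⁻¹ * g * z) ∈ P}
  have hval : ∀ g, indFun E (fun e : E => if x⁻¹ * (e : G) ∈ P then (n : ℂ) else 0) g =
      ((T g).card : ℂ) / (Nat.card P : ℂ) := by
    intro g
    rw [indFun]
    have hterm : ∀ z : G, extendByZero E (fun e : E => if x⁻¹ * (e : G) ∈ P then (n : ℂ) else 0)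
        (z⁻¹ * g * z) = if x⁻¹ * (z⁻¹ * g * z) ∈ P then (n : ℂ) else 0 := fun z => by
      by_cases hz : z⁻¹ * g * z ∈ E
      · rw [Char.extendByZero_mem E _ hz]
      · rw [Char.extendByZero_notMem E _ hz, if_neg]
        intro h
        have h2 := mul_mem hxE (hPE h)
        rw [mul_inv_cancel_left] at h2
        exact hz h2
    rw [Finset.sum_congr rfl fun z _ => hterm z, ← Finset.sum_filter, Finset.sum_const, nsmul_eq_mul]
    have hcard : (Nat.card E : ℂ) = (n : ℂ) * (Nat.card P : ℂ) := by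
      rw [← Nat.cast_mul, Subgroup.card_eq_card_quotient_mul_card_subgroup (P.subgroupOf E),
        Nat.card_congr (Subgroup.subgroupOfEquivOfLe hPE).toEquiv]
    rw [hcard]
    have hn0 : (n : ℂ) ≠ 0 := Nat.cast_ne_zero.mpr Nat.card_pos.ne'
    have hP0 : (Nat.card P : ℂ) ≠ 0 := Nat.cast_ne_zero.mpr Nat.card_pos.ne'
    show _ = (((Finset.univ.filter fun z => x⁻¹ * (z⁻¹ * g * z) ∈ P)).card : ℂ) / _
    field_simp
  -- the count is a multiple of the order of `P`
  set F : G → Set (G ⧸ P) := fun g =>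
    {c | ∃ z : G, (z : G ⧸ P) = c ∧ x⁻¹ * (z⁻¹ * g * z) ∈ P}
  have hstable : ∀ g z z' : G, (z : G ⧸ P) = (z' : G ⧸ P) → x⁻¹ * (z⁻¹ * g * z) ∈ P →
      x⁻¹ * (z'⁻¹ * g * z') ∈ P := by
    intro g z z' h hm
    have hv := QuotientGroup.eq.mp h
    obtain ⟨v, hvP, rfl⟩ : ∃ v ∈ P, z' = z * v := ⟨_, hv, (mul_inv_cancel_left z z').symm⟩
    have hcx : Commute v x := hPC v hvP
    rw [show x⁻¹ * ((z * v)⁻¹ * g * (z * v)) = x⁻¹ * v⁻¹ * (z⁻¹ * g * z) * v by group,
      show x⁻¹ * v⁻¹ = v⁻¹ * x⁻¹ from (hcx.inv_inv.symm).eq, mul_assoc v⁻¹]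
    exact mul_mem (mul_mem (inv_mem hvP) hm) hvP
  have hT : ∀ g, (T g).card = Nat.card P * Nat.card (F g) := by
    intro g
    rw [← Fintype.card_subtype, ← Nat.card_eq_fintype_card, ← Nat.card_prod]
    refine Nat.card_congr ((Equiv.subtypeEquivRight fun z => ?_).trans
      (QuotientGroup.preimageMkEquivSubgroupProdSet P (F g)))
    exact ⟨fun h => ⟨z, rfl, h⟩, fun ⟨z', hz', h⟩ => hstable g z' z hz' h⟩
  refine ⟨fun g => Nat.card (F g), ?_, ?_, ?_⟩
  · convert hmem using 1
    funext g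
    rw [hval, hT, Nat.cast_mul, mul_div_cancel_left₀ _ (Nat.cast_ne_zero.mpr Nat.card_pos.ne')]
  · intro g u w huw hcomm hu hw hnc
    rw [Nat.card_eq_zero]
    refine Or.inl ⟨fun ⟨c, z, _, hz⟩ => hnc ?_⟩
    set v := x⁻¹ * (z⁻¹ * g * z) with hv
    obtain ⟨k, hk⟩ := IsPGroup.iff_orderOf.mp hPp ⟨v, hz⟩
    have hvk : ∃ k : ℕ, orderOf v = p ^ k := ⟨k, by rwa [Subgroup.orderOf_mk] at hk⟩
    have e1 : z⁻¹ * g * z = v * x := by rw [(hPC v hz).eq, hv, mul_inv_cancel_left]
    have h1 : IsPPart p g u := ⟨w, huw, hcomm, hu, hw⟩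
    have h2 := Blocks.IsPPart.conj h1 z⁻¹
    rw [inv_inv, e1] at h2
    have h3 := Blocks.IsPPart.unique hp h2 (Blocks.isPPart_mul (hPC v hz) hvk hx)
    refine isConj_iff.mpr ⟨z⁻¹, ?_⟩
    rw [inv_inv]
    calc z⁻¹ * w * z = (z⁻¹ * u * z)⁻¹ * (z⁻¹ * (u * w) * z) := by group
      _ = x := by rw [huw, h3, e1, inv_mul_cancel_left]
  · intro g u w huw hcomm hu hw hc
    obtain ⟨a, rfl⟩ := isConj_iff.mp hc
    have hsh : Nat.card (F g) = Nat.card (F (a * g * a⁻¹)) := by
      refine Nat.eq_of_mul_eq_mul_left (Nat.card_pos (α := P)) ?_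
      rw [← hT, ← hT]
      refine Finset.card_equiv (Equiv.mulLeft a) fun z => ?_
      simp only [T, Finset.mem_filter, Finset.mem_univ, true_and, Equiv.coe_mulLeft]
      simp [mul_assoc]
    show ¬ p ∣ Nat.card (F g)
    rw [hsh]
    set u' := a * u * a⁻¹ with hu'
    have hcomm' : u' * (a * w * a⁻¹) = (a * w * a⁻¹) * u' := by
      rw [hu', show a * u * a⁻¹ * (a * w * a⁻¹) = a * (u * w) * a⁻¹ by group, hcomm.eq]
      group
    have hg : a * g * a⁻¹ = u' * (a * w * a⁻¹) := by rw [hu', ← huw]; group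
    rw [hg]
    set x := a * w * a⁻¹
    have hU : IsPGroup p (Subgroup.zpowers (⟨u', Subgroup.mem_centralizer_singleton_iff.mpr hcomm'⟩ : C)) := by
      obtain ⟨k, hk⟩ := hu
      refine IsPGroup.of_card (n := k) ?_
      rw [Nat.card_zpowers, Subgroup.orderOf_mk, hu',
        show a * u * a⁻¹ = (MulAut.conj a).toMonoidHom u from rfl,
        orderOf_injective (MulAut.conj a).toMonoidHom (MulAut.conj a).injective, hk]
    set U := Subgroup.zpowers (⟨u', Subgroup.mem_centralizer_singleton_iff.mpr hcomm'⟩ : C)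
    have hmod := hU.card_modEq_card_fixedPoints (α := C ⧸ (S : Subgroup C))
    have hFx : Nat.card (F (u' * x)) = Nat.card (MulAction.fixedPoints U (C ⧸ (S : Subgroup C))) := by
      refine Nat.eq_of_mul_eq_mul_left (Nat.card_pos (α := P)) ?_
      rw [← hT, show Nat.card P = Nat.card (S : Subgroup C) from
        Subgroup.card_map_of_injective C.subtype_injective, ← Nat.card_prod,
        ← Nat.card_congr (QuotientGroup.preimageMkEquivSubgroupProdSet (S : Subgroup C) _),
        ← Fintype.card_subtype, ← Nat.card_eq_fintype_card]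
      refine Nat.card_congr
        { toFun := fun z => ⟨⟨z.1, ?_⟩, ?_⟩
          invFun := fun z => ⟨(z.1 : G), ?_⟩
          left_inv := fun z => rfl
          right_inv := fun z => rfl }
      · set v := x⁻¹ * (z.1⁻¹ * (u' * x) * z.1) with hv
        have hvP : v ∈ P := z.2
        obtain ⟨k, hk⟩ := IsPGroup.iff_orderOf.mp hPp ⟨v, hvP⟩
        rw [Subgroup.orderOf_mk] at hk
        obtain ⟨k', hk'⟩ := hu
        have hu'o : orderOf u' = p ^ k' := by
          rw [hu', show a * u * a⁻¹ = (MulAut.conj a).toMonoidHom u from rfl,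
            orderOf_injective (MulAut.conj a).toMonoidHom (MulAut.conj a).injective, hk']
        have e1 : z.1⁻¹ * (u' * x) * z.1 = v * x := by rw [(hPC v hvP).eq, hv, mul_inv_cancel_left]
        have h2 := Blocks.IsPPart.conj (Blocks.isPPart_mul hcomm' ⟨k', hu'o⟩ hx) z.1⁻¹
        rw [inv_inv, e1] at h2
        have h3 := Blocks.IsPPart.unique hp h2 (Blocks.isPPart_mul (hPC v hvP) ⟨k, hk⟩ hx)
        have h4 : z.1⁻¹ * x * z.1 = x := by
          calc z.1⁻¹ * x * z.1 = (z.1⁻¹ * u' * z.1)⁻¹ * (z.1⁻¹ * (u' * x) * z.1) := by group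
            _ = x := by rw [h3, e1, inv_mul_cancel_left]
        refine Subgroup.mem_centralizer_singleton_iff.mpr ?_
        calc z.1 * x = z.1 * (z.1⁻¹ * x * z.1) := by rw [h4]
          _ = x * z.1 := by group
      · intro v
        obtain ⟨i, hi⟩ := Subgroup.mem_zpowers_iff.mp v.2
        have hzc := z.2
        set zc : C := ⟨z.1, _⟩
        set uc : C := ⟨u', Subgroup.mem_centralizer_singleton_iff.mpr hcomm'⟩
        have hmemS : zc⁻¹ * uc * zc ∈ (S : Subgroup C) := by
          have hcx : z.1 * x = x * z.1 := Subgroup.mem_centralizer_singleton_iff.mp zc.2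
          have hzP : x⁻¹ * (z.1⁻¹ * (u' * x) * z.1) ∈ P := hzc
          have e : x⁻¹ * (z.1⁻¹ * (u' * x) * z.1) = ((zc⁻¹ * uc * zc : C) : G) := by
            simp only [Subgroup.coe_mul, Subgroup.coe_inv, zc, uc]
            exact conj_translate hcx hcomm'
          rw [e] at hzP
          exact (Subgroup.mem_map_iff_mem C.subtype_injective).mp hzP
        show (v : C) • ((zc : C) : C ⧸ (S : Subgroup C)) = _
        rw [← hi, MulAction.Quotient.smul_mk, smul_eq_mul, QuotientGroup.eq]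
        have := Subgroup.zpow_mem _ hmemS (-i)
        convert this using 1
        have hz : (zc⁻¹ * uc * zc) ^ (-i) = zc⁻¹ * uc ^ (-i) * zc := by
          rw [← inv_inv zc, inv_inv zc⁻¹]
          simpa [mul_assoc] using conj_zpow (i := -i) (a := zc⁻¹) (b := uc)
        rw [hz]
        group
      · have h := z.2 ⟨_, Subgroup.mem_zpowers _⟩
        set uc : C := ⟨u', Subgroup.mem_centralizer_singleton_iff.mpr hcomm'⟩
        have h' : ((uc * z.1 : C) : C ⧸ (S : Subgroup C)) = (z.1 : C ⧸ (S : Subgroup C)) := h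
        have h2 := QuotientGroup.eq.mp h'.symm
        show (z.1 : G) ∈ {z | x⁻¹ * (z⁻¹ * (u' * x) * z) ∈ P}
        have hcx : (z.1 : G) * x = x * (z.1 : G) := Subgroup.mem_centralizer_singleton_iff.mp z.1.2
        have e : x⁻¹ * ((z.1 : G)⁻¹ * (u' * x) * (z.1 : G)) = ((z.1⁻¹ * (uc * z.1) : C) : G) := by
          simp only [Subgroup.coe_mul, Subgroup.coe_inv, uc]
          rw [conj_translate hcx hcomm', mul_assoc]
        show x⁻¹ * ((z.1 : G)⁻¹ * (u' * x) * (z.1 : G)) ∈ P
        rw [e]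
        exact Subgroup.mem_map_of_mem _ h2
    rw [hFx]
    intro hdvd
    exact S.not_dvd_index ((Nat.ModEq.dvd_iff hmod dvd_rfl).mpr hdvd)

/-- Brauer's induction for `p`-elementary subgroups. -/
theorem exists_mem_closure_elemGen (hp : p.Prime) : ∃ m : ℤ, ¬ (p : ℤ) ∣ m ∧
    (fun _ : G => (m : ℂ)) ∈ AddSubgroup.closure (elemGen p) := by
  classical
  have : Fact p.Prime := ⟨hp⟩
  let X : Finset (ConjClasses G) := Finset.univ.filter fun c => ¬ p ∣ orderOf (Quotient.out c)
  have hsec : ∀ c : X, ∃ N : G → ℕ, (fun g => (N g : ℂ)) ∈ intSpan (elemGen p) ∧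
      (∀ g u w : G, u * w = g → Commute u w → (∃ k : ℕ, orderOf u = p ^ k) → ¬ p ∣ orderOf w →
        ¬ IsConj w (Quotient.out c.1) → N g = 0) ∧
      ∀ g u w : G, u * w = g → Commute u w → (∃ k : ℕ, orderOf u = p ^ k) → ¬ p ∣ orderOf w →
        IsConj w (Quotient.out c.1) → ¬ p ∣ N g :=
    fun c => exists_section_function hp (Finset.mem_filter.mp c.2).2
  choose N hNmem hN0 hNp using hsec
  set Φ : G → ℕ := fun g => ∑ c : X, N c g
  have hΦmem : (fun g => (Φ g : ℂ)) ∈ intSpan (elemGen p) := by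
    rw [show (fun g => (Φ g : ℂ)) = ∑ c : X, fun g => (N c g : ℂ) from
      funext fun g => by simp [Φ, Finset.sum_apply]]
    exact sum_mem fun c _ => hNmem c
  have hΦp : ∀ g, ¬ p ∣ Φ g := by
    intro g
    obtain ⟨u, ⟨w, h1, h2, h3, h4⟩, -⟩ := Blocks.exists_isPPart hp g
    have hcw : IsConj w (Quotient.out (ConjClasses.mk w)) :=
      ConjClasses.mk_eq_mk_iff_isConj.mp (Quotient.out_eq (ConjClasses.mk w)).symm
    have hmemX : ConjClasses.mk w ∈ X := by
      refine Finset.mem_filter.mpr ⟨Finset.mem_univ _, ?_⟩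
      obtain ⟨a, ha⟩ := isConj_iff.mp hcw
      rw [← ha, show a * w * a⁻¹ = (MulAut.conj a).toMonoidHom w from rfl,
        orderOf_injective (MulAut.conj a).toMonoidHom (MulAut.conj a).injective]
      exact h4
    show ¬ p ∣ ∑ c : X, N c g
    rw [Finset.sum_eq_single (⟨ConjClasses.mk w, hmemX⟩ : X) ?_ (by simp)]
    · exact hNp _ g u w h1 h2 h3 h4 hcw
    · intro c _ hc
      refine hN0 c g u w h1 h2 h3 h4 fun h => hc (Subtype.ext ?_)
      exact ((ConjClasses.mk_eq_mk_iff_isConj.mpr h).trans (Quotient.out_eq c.1)).symm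
  set n := (Nat.card G).factorization p
  set e := Nat.totient (p ^ n)
  have he : 0 < e := Nat.totient_pos.mpr (pow_pos hp.pos n)
  have hmodg : ∀ g, Φ g ^ e ≡ 1 [MOD p ^ n] := fun g =>
    Nat.ModEq.pow_totient (Nat.Coprime.pow_right n ((hp.coprime_iff_not_dvd).mpr (hΦp g)).symm)
  have hh : ∀ g, ∃ h : ℤ, (Φ g : ℤ) ^ e = 1 + (p ^ n : ℕ) * h := fun g => by
    obtain ⟨h, hh⟩ := (Nat.modEq_iff_dvd.mp (hmodg g).symm)
    exact ⟨h, by push_cast at hh ⊢; linarith⟩
  choose h hhe using hh
  set m := Nat.card G / p ^ n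
  have hm : Nat.card G = p ^ n * m := (Nat.ordProj_mul_ordCompl_eq_self _ p).symm
  have hcl : IsClassFunction G (fun g => (h g : ℂ)) := by
    intro g a
    have hΦc : IsClassFunction G (fun g => (Φ g : ℂ)) := by
      have hle : intSpan (elemGen (G := G) p) ≤
          ({ carrier := {f | IsClassFunction G f}
             zero_mem' := fun _ _ => rfl
             add_mem' := fun {f₁ f₂} h₁ h₂ g b => by
               show f₁ (b * g * b⁻¹) + f₂ (b * g * b⁻¹) = f₁ g + f₂ g
               rw [h₁ g b, h₂ g b]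
             neg_mem' := fun {f} h₁ g b => by
               show -f (b * g * b⁻¹) = -f g
               rw [h₁ g b] } : AddSubgroup (G → ℂ)) :=
        intSpan_le fun s ⟨E, φ, _, _, hs⟩ c _ g b => by
          show c * s (b * g * b⁻¹) = c * s g
          rw [hs, Char.isClassFunction_indFun E φ g b]
      exact hle hΦmem
    have h1 : Φ (a * g * a⁻¹) = Φ g := Nat.cast_injective (R := ℂ) (hΦc g a)
    have h2 := hhe (a * g * a⁻¹)
    rw [h1, hhe g] at h2
    have h3 : h g = h (a * g * a⁻¹) := mul_left_cancel₀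
      (Int.natCast_ne_zero.mpr (pow_ne_zero n hp.ne_zero)) (add_left_cancel h2)
    exact congrArg (Int.cast (R := ℂ)) h3.symm
  have hmem : (fun _ : G => ((m : ℤ) : ℂ)) ∈ intSpan (elemGen p) := by
    have h1 := smul_mem_intSpan (a := (m : ℂ)) (isIntegral_algebraMap (R := ℤ) (x := (m : ℤ)))
      (pow_mem_intSpan_elemGen hΦmem he)
    have h2 := card_smul_mem hp hcl fun g => isIntegral_algebraMap (R := ℤ) (x := h g)
    convert sub_mem h1 h2 using 1
    funext g
    have h3 := congrArg (fun z : ℤ => (z : ℂ)) (hhe g)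
    simp only [Pi.sub_apply, Pi.smul_apply, Pi.pow_apply, smul_eq_mul]
    push_cast at h3 ⊢
    rw [h3, hm]
    push_cast
    ring
  refine ⟨m, ?_, mem_closure_of_mem_intSpan ?_ ?_ hmem⟩
  · rw [Int.natCast_dvd_natCast]
    exact Nat.not_dvd_ordCompl hp Nat.card_pos.ne'
  · rintro _ ⟨E, φ, -, hφ, rfl⟩
    exact Char.isGeneralized_indFun E (Char.isGeneralized_of_isCharacter hφ)
  · have := Char.isGeneralized_intCast_smul (G := G) Char.isGeneralized_one (m : ℤ)
    convert this using 1
    funext g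
    simp

/-- Functions induced from characters of elementary subgroups. -/
def allGen : Set (G → ℂ) :=
  {f | ∃ (E : Subgroup G) (φ : E → ℂ), (∃ q : ℕ, q.Prime ∧ IsElementary q E) ∧ IsCharacter E φ ∧
    f = indFun E φ}

/-- Brauer's induction theorem. -/
theorem one_mem_closure_allGen : (fun _ : G => (1 : ℂ)) ∈ AddSubgroup.closure (allGen (G := G)) := by
  let cst : ℤ →+ (G → ℂ) :=
    { toFun := fun z _ => (z : ℂ)
      map_zero' := funext fun _ => Int.cast_zero
      map_add' := fun a b => funext fun _ => Int.cast_add a b }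
  set J : AddSubgroup ℤ := (AddSubgroup.closure allGen).comap cst
  obtain ⟨d, hd⟩ := Int.subgroup_cyclic J
  by_cases hd1 : d.natAbs = 1
  · have : (1 : ℤ) ∈ J := by
      rw [hd]
      rcases Int.natAbs_eq d with h | h <;> rw [hd1] at h
      · exact AddSubgroup.mem_closure_singleton.mpr ⟨(1 : ℤ), by rw [h]; simp⟩
      · exact AddSubgroup.mem_closure_singleton.mpr ⟨(-1 : ℤ), by rw [h]; simp⟩
    have h2 : cst 1 ∈ AddSubgroup.closure (allGen (G := G)) := AddSubgroup.mem_comap.mp this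
    simpa [cst] using h2
  · exfalso
    obtain ⟨q, hq, hqd⟩ := Nat.exists_prime_and_dvd hd1
    obtain ⟨m, hm, hmem⟩ := exists_mem_closure_elemGen (G := G) hq
    have hsub : elemGen (G := G) q ⊆ allGen := by
      rintro f ⟨E, φ, hE, hφ, hf⟩
      exact ⟨E, φ, ⟨q, hq, hE⟩, hφ, hf⟩
    have hmJ : m ∈ J := AddSubgroup.mem_comap.mpr (AddSubgroup.closure_mono hsub hmem)
    rw [hd, AddSubgroup.mem_closure_singleton] at hmJ
    obtain ⟨k, rfl⟩ := hmJ
    exact hm (dvd_smul_of_dvd k (Int.natCast_dvd.mpr hqd))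

/-- Brauer's characterisation of generalized characters. -/
theorem isGeneralized_of_elementary {θ : G → ℂ} (hθ : IsClassFunction G θ)
    (hE : ∀ (E : Subgroup G) (q : ℕ), q.Prime → IsElementary q E →
      IsGeneralizedCharacter E (fun e : E => θ e)) : IsGeneralizedCharacter G θ := by
  have key : ∀ f ∈ AddSubgroup.closure (allGen (G := G)), IsGeneralizedCharacter G (f * θ) := by
    intro f hf
    induction hf using AddSubgroup.closure_induction with
    | mem x hx =>
        obtain ⟨E, φ, ⟨q, hq, hEl⟩, hφ, rfl⟩ := hx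
        rw [indFun_mul E φ hθ]
        exact Char.isGeneralized_indFun E
          (Char.isGeneralized_mul (Char.isGeneralized_of_isCharacter hφ) (hE E q hq hEl))
    | zero => rw [zero_mul]; exact Char.isGeneralized_zero
    | add x y _ _ h1 h2 => rw [add_mul]; exact Char.isGeneralized_add h1 h2
    | neg x _ h => rw [neg_mul]; exact Char.isGeneralized_neg h
  have := key _ one_mem_closure_allGen
  convert this using 1
  funext g
  simp

end CfsgLib.BrauerInd
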